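import Cfsg.Agent.Lib.E6Fold.Iso

/-!
Three classes of subgroups isomorphic to `F4(2)` in the twisted group of type `E6` over the field with four
elements, separated by the diagonal automorphisms.
-/

set_option autoImplicit false
set_option linter.unusedSectionVars false
set_option maxRecDepth 10000

namespace CfsgLib.E6Fold

open Cfsg.Lie CfsgLib.Chev CfsgLib.Twisted
open scoped Matrix

variable {K : Type*} [Field K] [CharP K 2]

/-- the extension of scalars -/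
noncomputable def mapK (K : Type*) [Field K] [CharP K 2] : GL E.Idx (ZMod 2) →* GL E.Idx K :=
  Units.map ((ZMod.castHom (dvd_refl 2) K).mapMatrix).toMonoidHom

theorem coe_mapK (g : GL E.Idx (ZMod 2)) :
    ((mapK K g : GL E.Idx K) : Matrix E.Idx E.Idx K) =
      (g : Matrix E.Idx E.Idx (ZMod 2)).map (ZMod.castHom (dvd_refl 2) K) := rfl

theorem mapK_injective : Function.Injective (mapK K) := by
  intro g h e
  ext x y
  have := congrFun (congrFun (congrArg (fun u : GL E.Idx K => (u : Matrix E.Idx E.Idx K)) e) x) y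
  simp only [coe_mapK, Matrix.map_apply] at this
  exact (ZMod.castHom (dvd_refl 2) K).injective this

theorem mapK_gE {p : List ℕ × ℕ} (hp : p ∈ genPairs) : mapK K (gE (ZMod 2) p.1) = gE K p.1 := by
  refine Units.ext ?_
  rw [coe_mapK, gE, gE, coe_word hcE (ZMod 2) (gen_bounds p hp).1, coe_word hcE K (gen_bounds p hp).1,
    Matrix.map_map]
  ext x y
  simp

theorem hk_eq_map : Hk K = (Hk (ZMod 2)).map (mapK K) := by
  rw [Hk, Hk, MonoidHom.map_closure]
  congr 1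
  ext g
  constructor
  · rintro ⟨p, hp, rfl⟩; exact ⟨_, ⟨p, hp, rfl⟩, mapK_gE hp⟩
  · rintro ⟨_, ⟨p, hp, rfl⟩, rfl⟩; exact ⟨p, hp, mapK_gE hp⟩

theorem hk_iso : Nonempty (↥(Hk K) ≃* ↥(F.group (ZMod 2))) := by
  obtain ⟨e⟩ := hk_two_iso
  exact ⟨(MulEquiv.subgroupCongr hk_eq_map).trans
    ((((Hk (ZMod 2)).equivMapOfInjective _ mapK_injective).symm).trans e)⟩

theorem hk_entries {g : GL E.Idx K} (hg : g ∈ Hk K) (x y : E.Idx) :
    (g : Matrix E.Idx E.Idx K) x y = 0 ∨ (g : Matrix E.Idx E.Idx K) x y = 1 := by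
  rw [hk_eq_map] at hg
  obtain ⟨g', -, rfl⟩ := hg
  rw [coe_mapK, Matrix.map_apply]
  rcases zmod_two ((g' : Matrix E.Idx E.Idx (ZMod 2)) x y) with h | h <;> rw [h] <;> simp

/-- the character of the diagonal automorphism -/
def chiD (w : Kˣ) : Fin E.rank → Kˣ := ![w, 1, 1, 1, 1, w ^ 2]

/-- the invariant of a character modulo the diagonal subgroup -/
def inv3 (a : Fin E.rank → Kˣ) : Kˣ :=
  a (0 : Fin 6) * (a (2 : Fin 6))⁻¹ * a (4 : Fin 6) * (a (5 : Fin 6))⁻¹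

theorem inv3_mul (a b : Fin E.rank → Kˣ) : inv3 (a * b) = inv3 a * inv3 b := by
  have hk : ∀ p q r s p' q' r' s' : Kˣ,
      p * p' * (q * q')⁻¹ * (r * r') * (s * s')⁻¹ = p * q⁻¹ * r * s⁻¹ * (p' * q'⁻¹ * r' * s'⁻¹) := by
    intro p q r s p' q' r' s'
    rw [mul_inv, mul_inv]; ac_rfl
  exact hk _ _ _ _ _ _ _ _

theorem inv3_one : inv3 (1 : Fin E.rank → Kˣ) = 1 := by
  show (1 : Kˣ) * 1⁻¹ * 1 * 1⁻¹ = 1
  simp

theorem inv3_chiD (w : Kˣ) : inv3 (chiD w) = w⁻¹ := by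
  show w * 1⁻¹ * 1 * (w ^ 2)⁻¹ = w⁻¹
  rw [inv_one, mul_one, mul_one, pow_two, mul_inv, mul_inv_cancel_left]

theorem cm_three : ∀ k : Fin E.rank,
    (3 : ℤ) ∣ cm E k (0 : Fin 6) - cm E k (2 : Fin 6) + cm E k (4 : Fin 6) - cm E k (5 : Fin 6) := by
  decide +kernel

theorem inv3_hPar (hcube : ∀ a : Kˣ, a ^ 3 = 1) (c : Fin E.rank → Kˣ) : inv3 (hPar E K c) = 1 := by
  show (∏ i, c i ^ cm E i (0 : Fin 6)) * (∏ i, c i ^ cm E i (2 : Fin 6))⁻¹ * (∏ i, c i ^ cm E i (4 : Fin 6)) *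
    (∏ i, c i ^ cm E i (5 : Fin 6))⁻¹ = 1
  rw [← Finset.prod_inv_distrib, ← Finset.prod_inv_distrib, ← Finset.prod_mul_distrib, ← Finset.prod_mul_distrib,
    ← Finset.prod_mul_distrib]
  refine Finset.prod_eq_one fun i _ => ?_
  obtain ⟨n, hn⟩ := cm_three i
  rw [← zpow_neg, ← zpow_neg, ← zpow_add, ← zpow_add, ← zpow_add, ← sub_eq_add_neg, ← sub_eq_add_neg, hn, zpow_mul,
    show (c i) ^ (3 : ℤ) = 1 from by rw [show (3 : ℤ) = ((3 : ℕ) : ℤ) from rfl, zpow_natCast, hcube], one_zpow]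

theorem torus_conj_group (χ : Fin E.rank → Kˣ) {g : GL E.Idx K} (hg : g ∈ E.group K) :
    torus E TE K χ * g * (torus E TE K χ)⁻¹ ∈ E.group K := by
  have h : ∀ x ∈ uGen E K (fun _ => True), torus E TE K χ * x * (torus E TE K χ)⁻¹ ∈ E.group K := by
    intro x hx
    induction hx using Subgroup.closure_induction with
    | mem x hx =>
        obtain ⟨r, t, hr, -, rfl⟩ := hx
        rw [torus_conj_elX hcE χ hr]
        exact elX_mem_group hcE hr _
    | one => simp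
    | mul x y _ _ ihx ihy => rw [← conj_mul]; exact mul_mem ihx ihy
    | inv x _ ih => rw [← conj_inv]; exact inv_mem ih
  exact h g (by rwa [← group_eq hcE])

/-- the diagonal translates -/
noncomputable def trans (w : Kˣ) (i : ℕ) : Subgroup (GL E.Idx K) :=
  (Hk K).map (MulAut.conj (torus E TE K (chiD w ^ i))).toMonoidHom

theorem mem_trans {w : Kˣ} {i : ℕ} {g : GL E.Idx K} :
    g ∈ trans w i ↔ (torus E TE K (chiD w ^ i))⁻¹ * g * torus E TE K (chiD w ^ i) ∈ Hk K := by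
  constructor
  · rintro ⟨h, hh, rfl⟩
    have e : ∀ d a : GL E.Idx K, d⁻¹ * (d * a * d⁻¹) * d = a := fun d a => by group
    show _ * (_ * h * _) * _ ∈ _
    rw [e]; exact hh
  · intro h
    refine ⟨_, h, ?_⟩
    have e : ∀ d a : GL E.Idx K, d * (d⁻¹ * a * d) * d⁻¹ = a := fun d a => by group
    show _ * (_ * g * _) * _ = g
    exact e _ _

theorem word_in_twisted {L : List (ℕ × K)} (hL : L ∈ e6Words K 2) (hlt : ∀ q ∈ L, q.1 < E.nroots) :
    (L.map fun q => elX E K q.1 q.2).prod ∈ twistedE6 K 2 := by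
  refine Subgroup.subset_closure ⟨L, hL, ?_⟩
  clear hL
  induction L with
  | nil => simp [ChevalleyDatum.wordMat]
  | cons q L ih =>
      rw [List.map_cons, List.prod_cons, Units.val_mul, ih (fun p hp => hlt p (List.mem_cons_of_mem _ hp)),
        coe_elX hcE K (hlt q List.mem_cons_self)]
      simp [ChevalleyDatum.wordMat]

theorem gen_roots : ∀ p ∈ genPairs, ∀ r ∈ p.1, ∃ k : Fin E.rank, r = E.simple k.val ∨ r = E.neg (E.simple k.val) := by
  decide +kernel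

theorem node_roots : E.simple 0 = 56 ∧ E.simple 1 = 46 ∧ E.simple 2 = 42 ∧ E.simple 3 = 39 ∧ E.simple 4 = 37 ∧
    E.simple 5 = 36 ∧ E.neg 56 = 15 ∧ E.neg 46 = 25 ∧ E.neg 42 = 29 ∧ E.neg 39 = 32 ∧ E.neg 37 = 34 ∧
    E.neg 36 = 35 := by decide +kernel

theorem chi_rv (χ : Fin E.rank → Kˣ) (k : Fin E.rank) :
    chi χ (rv E TE (E.simple k.val)) = χ k ∧ chi χ (rv E TE (E.neg (E.simple k.val))) = (χ k)⁻¹ := by
  rw [rv_neg hcE (simple_lt hcE k.2), chi_neg, rv_simple hcE k, chi_single, zpow_one]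
  exact ⟨rfl, rfl⟩

theorem trans_le (w : Kˣ) (hcube : ∀ a : Kˣ, a ^ 3 = 1) (i : ℕ) : trans w i ≤ twistedE6 K 2 := by
  rw [trans, Subgroup.map_le_iff_le_comap, Hk, Subgroup.closure_le]
  rintro _ ⟨p, hp, rfl⟩
  rw [SetLike.mem_coe, Subgroup.mem_comap, MulEquiv.coe_toMonoidHom]
  show MulAut.conj (torus E TE K (chiD w ^ i)) (gE K p.1) ∈ _
  set χ := chiD w ^ i with hχ
  obtain ⟨a0, a1, a2, a3, a4, a5, b0, b1, b2, b3, b4, b5⟩ := node_roots
  have hconj : MulAut.conj (torus E TE K χ) (gE K p.1) =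
      ((p.1.map fun r => ((r, (chi χ (rv E TE r) : K)) : ℕ × K)).map fun q => elX E K q.1 q.2).prod := by
    rw [gE, map_list_prod, List.map_map, List.map_map]
    congr 1
    refine List.map_congr_left fun r hr => ?_
    simp [torus_conj_elX hcE χ ((gen_bounds p hp).1 r hr)]
  rw [hconj]
  refine word_in_twisted ?_ (fun q hq => ?_)
  swap
  · obtain ⟨r, hr, rfl⟩ := List.mem_map.1 hq
    exact (gen_bounds p hp).1 r hr
  have c0 : χ (0 : Fin 6) = w ^ i := show w ^ i = w ^ i from rfl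
  have c1 : χ (1 : Fin 6) = 1 := show (1 : Kˣ) ^ i = 1 from one_pow i
  have c2 : χ (2 : Fin 6) = 1 := show (1 : Kˣ) ^ i = 1 from one_pow i
  have c3 : χ (3 : Fin 6) = 1 := show (1 : Kˣ) ^ i = 1 from one_pow i
  have c4 : χ (4 : Fin 6) = 1 := show (1 : Kˣ) ^ i = 1 from one_pow i
  have c5 : χ (5 : Fin 6) = (w ^ i) ^ 2 := show (w ^ 2) ^ i = (w ^ i) ^ 2 by rw [← pow_mul, ← pow_mul, mul_comm]
  obtain ⟨p0, m0⟩ := chi_rv χ (0 : Fin 6)
  obtain ⟨p1, m1⟩ := chi_rv χ (1 : Fin 6)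
  obtain ⟨p2, m2⟩ := chi_rv χ (2 : Fin 6)
  obtain ⟨p3, m3⟩ := chi_rv χ (3 : Fin 6)
  obtain ⟨p4, m4⟩ := chi_rv χ (4 : Fin 6)
  obtain ⟨p5, m5⟩ := chi_rv χ (5 : Fin 6)
  change chi χ (rv E TE (E.simple 0)) = _ at p0
  change chi χ (rv E TE (E.simple 1)) = _ at p1
  change chi χ (rv E TE (E.simple 2)) = _ at p2
  change chi χ (rv E TE (E.simple 3)) = _ at p3
  change chi χ (rv E TE (E.simple 4)) = _ at p4
  change chi χ (rv E TE (E.simple 5)) = _ at p5
  change chi χ (rv E TE (E.neg (E.simple 0))) = _ at m0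
  change chi χ (rv E TE (E.neg (E.simple 1))) = _ at m1
  change chi χ (rv E TE (E.neg (E.simple 2))) = _ at m2
  change chi χ (rv E TE (E.neg (E.simple 3))) = _ at m3
  change chi χ (rv E TE (E.neg (E.simple 4))) = _ at m4
  change chi χ (rv E TE (E.neg (E.simple 5))) = _ at m5
  rw [a0, c0] at p0; rw [a1, c1] at p1; rw [a2, c2] at p2; rw [a3, c3] at p3; rw [a4, c4] at p4; rw [a5, c5] at p5
  rw [a0, b0, c0] at m0; rw [a1, b1, c1, inv_one] at m1; rw [a2, b2, c2, inv_one] at m2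
  rw [a3, b3, c3, inv_one] at m3; rw [a4, b4, c4, inv_one] at m4; rw [a5, b5, c5] at m5
  have single : ∀ r ∈ [e6p2, e6m2, e6p4, e6m4], chi χ (rv E TE r) = 1 →
      [((r, (chi χ (rv E TE r) : K)) : ℕ × K)] ∈ e6Words K 2 := fun r hr e =>
    Or.inl ⟨(chi χ (rv E TE r) : K), by rw [e, Units.val_one, one_pow], r, hr, rfl⟩
  have double : ∀ rs ∈ [(e6p1, e6p6), (e6m1, e6m6), (e6p3, e6p5), (e6m3, e6m5)],
      chi χ (rv E TE rs.2) = chi χ (rv E TE rs.1) ^ 2 →
      [((rs.1, (chi χ (rv E TE rs.1) : K)) : ℕ × K), (rs.2, (chi χ (rv E TE rs.2) : K))] ∈ e6Words K 2 :=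
    fun rs hrs e => Or.inr ⟨(chi χ (rv E TE rs.1) : K), rs, hrs, by rw [e, Units.val_pow_eq_pow_val]⟩
  simp only [genPairs, List.mem_cons, List.not_mem_nil, or_false] at hp
  rcases hp with rfl | rfl | rfl | rfl | rfl | rfl | rfl | rfl
  · exact single 46 (by decide) p1
  · exact single 25 (by decide) m1
  · exact single 39 (by decide) p3
  · exact single 32 (by decide) m3
  · exact double (56, 36) (by decide) (by rw [p0, p5])
  · exact double (15, 35) (by decide) (by rw [m0, m5, inv_pow])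
  · exact double (42, 37) (by decide) (by rw [p2, p4, one_pow])
  · exact double (29, 34) (by decide) (by rw [m2, m4, one_pow])

theorem twisted_le_group : twistedE6 K 2 ≤ E.group K := by
  refine (Subgroup.closure_le _).2 ?_
  rintro g ⟨L, hL, e⟩
  have hlt : ∀ q ∈ L, q.1 < E.nroots := by
    have h1 : ∀ r ∈ [e6p2, e6m2, e6p4, e6m4], r < E.nroots := by decide
    have h2 : ∀ rs ∈ [(e6p1, e6p6), (e6m1, e6m6), (e6p3, e6p5), (e6m3, e6m5)],
        rs.1 < E.nroots ∧ rs.2 < E.nroots := by decide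
    rcases hL with ⟨t, -, r, hr, rfl⟩ | ⟨t, rs, hrs, rfl⟩ <;> intro q hq <;>
      simp only [List.mem_cons, List.not_mem_nil, or_false] at hq
    · subst hq; exact h1 r hr
    · rcases hq with rfl | rfl
      · exact (h2 rs hrs).1
      · exact (h2 rs hrs).2
  have hg : g = (L.map fun q => elX E K q.1 q.2).prod := by
    refine Units.ext ?_
    rw [e]
    clear e hL
    induction L with
    | nil => simp [ChevalleyDatum.wordMat]
    | cons q L ih =>
        rw [List.map_cons, List.prod_cons, Units.val_mul, ← ih (fun p hp => hlt p (List.mem_cons_of_mem _ hp)),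
          coe_elX hcE K (hlt q List.mem_cons_self)]
        simp [ChevalleyDatum.wordMat]
  rw [hg]
  refine Subgroup.list_prod_mem _ fun x hx => ?_
  obtain ⟨q, hq, rfl⟩ := List.mem_map.1 hx
  exact elX_mem_group hcE (hlt q hq) _

theorem exists_conj_into_pos [Finite K] {u : GL E.Idx K} (hu : u ∈ Hk K) (h2 : IsPGroup 2 ↥(Subgroup.zpowers u)) :
    ∃ h ∈ Hk K, h * u * h⁻¹ ∈ uGen E K (fun r => E.nroots / 2 ≤ r) := by
  classical
  haveI : Fact (Nat.Prime 2) := ⟨Nat.prime_two⟩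
  haveI : Finite (GL E.Idx K) := inferInstance
  set U := uGen E K (fun r => E.nroots / 2 ≤ r) with hU
  have hUp : IsPGroup 2 ↥(U.subgroupOf (Hk K)) :=
    (Chev.isPGroup_pos hcE (F := K) 2).comap_of_injective (Hk K).subtype (Subgroup.subtype_injective _)
  obtain ⟨P, hP⟩ := hUp.exists_le_sylow
  have hPU : (P : Subgroup ↥(Hk K)) ≤ U.subgroupOf (Hk K) := by
    intro x hx
    refine le_pos_of_regular hcE htPosE hcommE (p := 2) (R := (P : Subgroup ↥(Hk K)).map (Hk K).subtype) ?_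
      (P.isPGroup'.map _) (u0_regular K) ?_ (Subgroup.mem_map_of_mem _ hx)
    · rintro _ ⟨y, -, rfl⟩; exact Hk_le_group K y.2
    · exact ⟨⟨u0 K, u0_mem K⟩, hP (show u0 K ∈ U from u0_pos K), rfl⟩
  have hR : IsPGroup 2 ↥((Subgroup.zpowers u).subgroupOf (Hk K)) :=
    h2.comap_of_injective (Hk K).subtype (Subgroup.subtype_injective _)
  obtain ⟨Q, hQ⟩ := hR.exists_le_sylow
  obtain ⟨c, hcQ⟩ := MulAction.exists_smul_eq ↥(Hk K) P Q
  have h1 : (⟨u, hu⟩ : ↥(Hk K)) ∈ (Q : Subgroup ↥(Hk K)) := hQ (Subgroup.mem_zpowers u)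
  rw [← hcQ, Sylow.coe_subgroup_smul, Subgroup.mem_pointwise_smul_iff_inv_smul_mem] at h1
  have h3 := hPU h1
  refine ⟨(c : GL E.Idx K)⁻¹, inv_mem c.2, ?_⟩
  rw [Subgroup.mem_subgroupOf] at h3
  simpa [MulAut.smul_def] using h3

theorem trans_not_conj [Finite K] (w : Kˣ) (hcube : ∀ a : Kˣ, a ^ 3 = 1) {i j : ℕ} {g : GL E.Idx K}
    (hg : g ∈ E.group K) (e : ∀ y ∈ trans w i, g * y * g⁻¹ ∈ trans w j) : w ^ i = w ^ j := by
  haveI : Fact (Nat.Prime 2) := ⟨Nat.prime_two⟩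
  set di := torus E TE K (chiD w ^ i) with hdi
  set dj := torus E TE K (chiD w ^ j) with hdj
  set x := dj⁻¹ * g * di with hx
  have hxH : ∀ h ∈ Hk K, x * h * x⁻¹ ∈ Hk K := by
    intro h hh
    have h1 := mem_trans.1 (e (di * h * di⁻¹) ⟨h, hh, rfl⟩)
    rwa [show dj⁻¹ * (g * (di * h * di⁻¹) * g⁻¹) * dj = x * h * x⁻¹ by rw [hx]; group] at h1
  have hu0 : IsPGroup 2 ↥(Subgroup.zpowers (x * u0 K * x⁻¹)) := by
    have h : IsPGroup 2 ↥((Subgroup.zpowers (u0 K)).map (MulAut.conj x).toMonoidHom) :=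
      ((Chev.isPGroup_pos hcE (F := K) 2).to_le ((Subgroup.zpowers_le).2 (u0_pos K))).map _
    rw [MonoidHom.map_zpowers] at h
    exact h
  obtain ⟨h, hh, hU⟩ := exists_conj_into_pos (hxH _ (u0_mem K)) hu0
  set y := h * (x * u0 K * x⁻¹) * h⁻¹ with hy
  have hyH : y ∈ Hk K := mul_mem (mul_mem hh (hxH _ (u0_mem K))) (inv_mem hh)
  set g' := di⁻¹ * (dj * h * dj⁻¹ * g) * di with hg'
  have hg'G : g' ∈ E.group K := by
    have h1 := torus_conj_group (χ := (chiD w ^ i)⁻¹)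
      (mul_mem (torus_conj_group (chiD w ^ j) (Hk_le_group K hh)) hg)
    rwa [map_inv, inv_inv] at h1
  set D0 := dj⁻¹ * di with hD0
  have hyD : y = D0 * (g' * u0 K * g'⁻¹) * D0⁻¹ := by rw [hy, hg', hD0, hx]; group
  have hD0t : D0 = torus E TE K ((chiD w ^ j)⁻¹ * chiD w ^ i) := by rw [map_mul, map_inv]
  have hgU : g' * u0 K * g'⁻¹ ∈ uGen E K (fun r => E.nroots / 2 ≤ r) := by
    have hstep : ∀ z ∈ uGen E K (fun r => E.nroots / 2 ≤ r), ∀ χ : Fin E.rank → Kˣ,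
        torus E TE K χ * z * (torus E TE K χ)⁻¹ ∈ uGen E K (fun r => E.nroots / 2 ≤ r) := by
      intro z hz χ
      induction hz using Subgroup.closure_induction with
      | mem x hx =>
          obtain ⟨r, t, hr, hp, rfl⟩ := hx
          rw [torus_conj_elX hcE χ hr]
          exact elX_mem_uGen hr hp _
      | one => simp
      | mul x y _ _ ihx ihy => rw [← conj_mul]; exact mul_mem ihx ihy
      | inv x _ ih => rw [← conj_inv]; exact inv_mem ih
    have h1 := hstep y hU ((chiD w ^ j)⁻¹ * chiD w ^ i)⁻¹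
    rwa [map_inv, ← hD0t, inv_inv, hyD,
      show D0⁻¹ * (D0 * (g' * u0 K * g'⁻¹) * D0⁻¹) * D0 = g' * u0 K * g'⁻¹ by group] at h1
  obtain ⟨u, hu, t, ht, hut⟩ := (mem_borel hcE).1 (mem_borel_of_regular hcE htPosE hcommE hg'G (u0_regular K) hgU)
  obtain ⟨c, hc⟩ := (mem_diagonal hcE).1 ht
  set v := t⁻¹ * u * t with hv
  have hvU : v ∈ uGen E K (fun r => E.nroots / 2 ≤ r) := diag_conj_mem' hcE _ ht hu
  set ψ := (chiD w ^ j)⁻¹ * chiD w ^ i * hPar E K c with hψ
  have hyτ : y = torus E TE K ψ * (v * u0 K * v⁻¹) * (torus E TE K ψ)⁻¹ := by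
    rw [hψ, map_mul, ← hD0t, hc, hyD, hut, hv]; group
  have hψ1 : ∀ k : Fin E.rank, ψ k = 1 := by
    intro k
    have hz : lead (v * u0 K * v⁻¹) (E.simple k.val) k = 1 := by
      rw [lead_add hcE htPosE (mul_mem hvU (u0_pos K)) (inv_mem hvU), lead_add hcE htPosE hvU (u0_pos K),
        lead_inv hcE htPosE hvU, u0_lead, add_comm (lead v _ _), add_neg_cancel_right]
    have hn : E.neg (E.simple k.val) < E.nroots := neg_lt hcE (simple_lt hcE k.2)
    rw [lead, dif_pos hn] at hz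
    have hent : (y : Matrix E.Idx E.Idx K) (Sum.inl k) (Sum.inr ⟨_, hn⟩) = (ψ k : K) := by
      rw [hyτ, ← map_inv, Units.val_mul, Units.val_mul, coe_torus, coe_torus, Matrix.mul_diagonal,
        Matrix.diagonal_mul, hz, mul_one, wI_inl, chi_zero, Units.val_one, one_mul, wI_inr,
        rv_neg hcE (simple_lt hcE k.2), chi_neg, rv_simple hcE k, chi_single, zpow_one, Pi.inv_apply, inv_inv]
    rcases hk_entries hyH (Sum.inl k) (Sum.inr ⟨_, hn⟩) with h0 | h0
    · exact absurd (hent.symm.trans h0) (ψ k).ne_zero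
    · exact Units.ext ((hent.symm.trans h0).trans Units.val_one.symm)
  have h3 : inv3 ψ = 1 := by
    rw [show ψ = 1 from funext hψ1, inv3_one]
  have hinv : ∀ n : ℕ, inv3 (chiD w ^ n) = (w⁻¹) ^ n := by
    intro n
    induction n with
    | zero => rw [pow_zero, pow_zero, inv3_one]
    | succ n ih => rw [pow_succ, inv3_mul, ih, inv3_chiD, pow_succ]
  have hinv' : inv3 ((chiD w ^ j)⁻¹) = ((w⁻¹) ^ j)⁻¹ := by
    refine eq_inv_of_mul_eq_one_left ?_
    rw [← hinv, ← inv3_mul, inv_mul_cancel, inv3_one]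
  rw [hψ, inv3_mul, inv3_mul, inv3_hPar hcube, mul_one, hinv, hinv', inv_mul_eq_one, inv_pow, inv_pow, inv_inj] at h3
  exact h3.symm

/-- three classes -/
theorem exists_three {K : Type*} [Field K] [Fintype K] (hK : Fintype.card K = 4) :
    ∃ H : Fin 3 → Subgroup ↥(twistedE6 K 2),
      (∀ i, Nonempty (↥(H i) ≃* ↥(F.group (ZMod 2)))) ∧
      (∀ i j, i ≠ j → ∀ g : ↥(twistedE6 K 2), (H i).map (MulAut.conj g).toMonoidHom ≠ H j) := by
  classical
  haveI : Fact (Nat.Prime 2) := ⟨Nat.prime_two⟩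
  haveI : CharP K 2 := charP_of_card_eq_prime_pow (p := 2) (f := 2) (by rw [hK]; norm_num)
  have hu : Nat.card Kˣ = 3 := by
    rw [Nat.card_units, Nat.card_eq_fintype_card, hK]
  have hcube : ∀ a : Kˣ, a ^ 3 = 1 := fun a => by rw [← hu]; exact pow_card_eq_one'
  haveI : Fact (Nat.Prime 3) := ⟨Nat.prime_three⟩
  haveI : Nontrivial Kˣ := Finite.one_lt_card_iff_nontrivial.1 (by rw [hu]; norm_num)
  obtain ⟨w, hw⟩ := exists_ne (1 : Kˣ)
  have hord : orderOf w = 3 := orderOf_eq_prime (hcube w) hw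
  refine ⟨fun i => (trans w i.val).subgroupOf (twistedE6 K 2), fun i => ?_, fun i j hij g e => hij ?_⟩
  · obtain ⟨f⟩ := hk_iso (K := K)
    exact ⟨((Subgroup.subgroupOfEquivOfLe (trans_le w hcube i.val)).trans
      ((Hk K).equivMapOfInjective _ (MulAut.conj _).injective).symm).trans f⟩
  · have h := trans_not_conj w hcube (i := i.val) (j := j.val) (twisted_le_group g.2) ?_
    · exact Fin.ext (pow_injOn_Iio_orderOf (x := w) (by rw [Set.mem_Iio, hord]; exact i.2)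
        (by rw [Set.mem_Iio, hord]; exact j.2) h)
    · intro y hy
      have h1 : g * ⟨y, trans_le w hcube _ hy⟩ * g⁻¹ ∈ (trans w j.val).subgroupOf (twistedE6 K 2) := by
        dsimp only at e
        rw [← e]; exact ⟨⟨y, trans_le w hcube _ hy⟩, hy, rfl⟩
      exact h1

end CfsgLib.E6Fold
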