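import Cfsg.Agent.Lib.Twisted.E6U
import Cfsg.Agent.Lib.Twisted.F4Sigma
import Cfsg.Agent.Lib.Chev.Auto
import Cfsg.Prelude.Def_LieTwisted

/-!
The folding of `E6` onto `F4` on root indices and the kernel check that the generators of the folded
group act on the fixed vectors of the diagram symmetry as the generators of `F4` modulo two.
-/

set_option autoImplicit false
set_option linter.unusedSectionVars false
set_option maxRecDepth 10000

namespace CfsgLib.E6Fold

open Cfsg.Lie CfsgLib.Chev

abbrev E : ChevalleyDatum := chevE6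
abbrev F : ChevalleyDatum := chevF4
abbrev TE : Tabs := CfsgLib.Chev.E6.tabs
abbrev TF : Tabs := CfsgLib.Chev.F4.tabs

/-- the image of a basis code of `E6` among those of `F4` -/
def foldTbl : List ℕ := [0, 1, 2, 3, 7, 3, 4, 8, 5, 9, 11, 6, 10, 12, 13, 14, 7, 8, 15, 9, 16, 18, 11, 18, 21, 23, 10, 17, 19, 20, 12, 19, 22, 13, 20, 14, 33, 27, 34, 25, 28, 35, 27, 28, 30, 37, 24, 26, 29, 36, 29, 31, 38, 32, 39, 40, 33, 34, 35, 37, 41, 36, 38, 42, 39, 43, 44, 40, 44, 45, 46, 47, 48, 51, 49, 50, 49, 48]

/-- the diagram symmetry on basis codes -/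
def sigTbl : List ℕ := [0, 1, 2, 5, 16, 3, 6, 17, 8, 19, 22, 11, 26, 30, 33, 35, 4, 7, 18, 9, 20, 23, 10, 21, 24, 25, 12, 27, 31, 34, 13, 28, 32, 14, 29, 15, 56, 42, 57, 39, 43, 58, 37, 40, 44, 59, 46, 47, 50, 61, 48, 51, 62, 53, 64, 67, 36, 38, 41, 45, 60, 49, 52, 63, 54, 65, 68, 55, 66, 69, 70, 71, 77, 73, 76, 75, 74, 72]

def fold (k : ℕ) : ℕ := foldTbl.getD k 0

def sigC (k : ℕ) : ℕ := sigTbl.getD k 0

/-- the generators with their images -/
def genPairs : List (List ℕ × ℕ) :=
  [([46], 24), ([25], 23), ([39], 25), ([32], 22), ([56, 36], 33), ([15, 35], 14), ([42, 37], 27),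
    ([29, 34], 20)]

/-- a product of root elements of parameter one applied to a sparse vector -/
noncomputable def applyWord (D : ChevalleyDatum) (T : Tabs) (L : List ℕ) (v : List (ℕ × ℤ)) :
    List (ℕ × ℤ) :=
  L.foldr (fun r w => xApply D T r 1 w) v

/-- a column of the incidence matrix -/
def colB (y : ℕ) : List (ℕ × ℤ) := ((List.range 78).filter fun k => fold k == y).map fun k => (k, 1)

/-- equal modulo two -/
def eqMod (a b : ℤ) : Bool := decide ((a - b) % 2 = 0)

/-- the intertwining of one generator -/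
noncomputable def pairCheck (p : List ℕ × ℕ) : Bool :=
  allNat 52 fun y =>
    allNat 78 fun k => eqMod (coeffAt (applyWord E TE p.1 (colB y)) k)
      (coeffAt (xApply F TF p.2 1 [(y, 1)]) (fold k))

/-- the invariance of one generator under the symmetry -/
noncomputable def commCheck (p : List ℕ × ℕ) : Bool :=
  allNat 78 fun y =>
    allNat 78 fun k => eqMod (coeffAt (applyWord E TE p.1 [(sigC y, 1)]) (sigC k))
      (coeffAt (applyWord E TE p.1 [(y, 1)]) k)

theorem gen_bounds : ∀ p ∈ genPairs, (∀ r ∈ p.1, r < E.nroots) ∧ p.2 < F.nroots := by decide +kernel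

theorem pair_ok : ∀ p ∈ genPairs, pairCheck p = true := by decide +kernel

theorem comm_ok : ∀ p ∈ genPairs, commCheck p = true := by decide +kernel

theorem code_facts : ∀ k : Fin 78, fold k < 52 ∧ sigC k < 78 ∧ sigC (sigC k) = k ∧
    fold (sigC k) = fold k := by decide +kernel

theorem fibre : ∀ j k : Fin 78, fold j = fold k → j.val = k.val ∨ j.val = sigC k := by decide +kernel

theorem fold_surj : ∀ y : Fin 52, ∃ k : Fin 78, fold k = y.val := by decide +kernel

end CfsgLib.E6Fold
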