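import Cfsg.Agent.Lib.E6Fold.Hom
import Cfsg.Agent.Lib.Chev.Bruhat
import Cfsg.Agent.Lib.CurtisTits.Main

/-!
The folded group over a field of characteristic two, its generators, and its image over the field
with two elements.
-/

set_option autoImplicit false
set_option linter.unusedSectionVars false
set_option maxRecDepth 10000

namespace CfsgLib.E6Fold

open Cfsg.Lie CfsgLib.Chev
open scoped Matrix

/-- a generator -/
noncomputable def gE (K : Type*) [Field K] (L : List ℕ) : GL E.Idx K := (L.map fun r => elX E K r 1).prod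

/-- the folded group -/
noncomputable def Hk (K : Type*) [Field K] : Subgroup (GL E.Idx K) :=
  Subgroup.closure {g | ∃ p ∈ genPairs, g = gE K p.1}

theorem gE_mem {K : Type*} [Field K] {p : List ℕ × ℕ} (hp : p ∈ genPairs) : gE K p.1 ∈ Hk K :=
  Subgroup.subset_closure ⟨p, hp, rfl⟩

/-- the product matrix over the integers -/
noncomputable def wordZ (D : ChevalleyDatum) (T : Tabs) (L : List ℕ) : Matrix D.Idx D.Idx ℤ :=
  (L.map fun r => xTab D T ℤ r 1).prod

section
variable {D : ChevalleyDatum} {T : Tabs} (hc : Checked D T)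
include hc

theorem good_applyWord : ∀ {L : List ℕ}, (∀ r ∈ L, r < D.nroots) → ∀ {v}, Good D v →
    Good D (applyWord D T L v)
  | [], _, _, hv => hv
  | r :: L, h, v, hv =>
      good_xApply hc (h r List.mem_cons_self) 1 (good_applyWord (fun s hs => h s (List.mem_cons_of_mem _ hs)) hv)

theorem vecOf_applyWord : ∀ {L : List ℕ}, (∀ r ∈ L, r < D.nroots) → ∀ {v}, Good D v →
    vecOf D (applyWord D T L v) = wordZ D T L *ᵥ vecOf D v
  | [], _, v, _ => by simp [applyWord, wordZ]
  | r :: L, h, v, hv => by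
      have h' : ∀ s ∈ L, s < D.nroots := fun s hs => h s (List.mem_cons_of_mem _ hs)
      show vecOf D (xApply D T r 1 (applyWord D T L v)) = _
      rw [vecOf_xApply (one_mul 1) (good_applyWord hc h' hv), vecOf_applyWord h' hv, Matrix.mulVec_mulVec]
      simp [wordZ]

theorem xTab_map {R : Type*} [CommRing R] (r : ℕ) (e : ℤ) :
    (xTab D T ℤ r e).map (Int.castRingHom R) = xTab D T R r (e : R) := by
  ext a b
  simp only [xTab, Matrix.map_apply, Matrix.add_apply, Matrix.smul_apply, smul_eq_mul, map_add, map_mul, map_pow,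
    Matrix.one_apply, apply_ite (Int.castRingHom R), map_one, map_zero, eq_intCast, Int.cast_id]

theorem coe_word (K : Type*) [Field K] : ∀ {L : List ℕ}, (∀ r ∈ L, r < D.nroots) →
    (((L.map fun r => elX D K r (1 : K)).prod : GL D.Idx K) : Matrix D.Idx D.Idx K) =
      (wordZ D T L).map (Int.castRingHom K)
  | [], _ => by simp [wordZ, Matrix.map_one]
  | r :: L, h => by
      have hr := h r List.mem_cons_self
      simp only [List.map_cons, List.prod_cons, wordZ, Units.val_mul, Matrix.map_mul, xTab_map hc]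
      rw [coe_word K (fun s hs => h s (List.mem_cons_of_mem _ hs)), coe_elX hc K hr, xMat_eq hc K hr, Int.cast_one]
      rfl

theorem word_entry {L : List ℕ} (h : ∀ r ∈ L, r < D.nroots) (x y : D.Idx) :
    wordZ D T L x y = coeffAt (applyWord D T L [(cd D y, 1)]) (cd D x) := by
  have hv : Good D [(cd D y, (1 : ℤ))] := fun p hp => by
    rw [List.mem_singleton.1 hp]; exact cd_lt y
  have e := congrFun (vecOf_applyWord hc h hv) x
  rw [vecOf_single, Matrix.mulVec_single] at e
  simp at e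
  exact e.symm

end

theorem colB_spec : ∀ y : Fin 52, (∀ p ∈ colB y, p.1 < 78) ∧
    ∀ k : Fin 78, coeffAt (colB y) k = if fold k = y.val then 1 else 0 := by decide +kernel

theorem cast_eqMod {a b : ℤ} (h : eqMod a b = true) : ((a : ℤ) : ZMod 2) = (b : ZMod 2) := by
  rw [eqMod, decide_eq_true_eq] at h
  exact (ZMod.intCast_eq_intCast_iff_dvd_sub a b 2).2 (by
    have : (2 : ℤ) ∣ a - b := Int.dvd_of_emod_eq_zero h
    exact (dvd_sub_comm).1 (by exact_mod_cast this))

theorem gE_symm {p : List ℕ × ℕ} (hp : p ∈ genPairs) : gE (ZMod 2) p.1 ∈ symm := by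
  obtain ⟨hL, -⟩ := gen_bounds p hp
  show _ = _
  ext x y
  simp only [gE, Matrix.submatrix_apply, coe_word hcE (ZMod 2) hL, Matrix.map_apply, word_entry hcE hL,
    sigI_apply, cd_sigI0, eq_intCast]
  have h := comm_ok p hp
  simp only [commCheck, allNat_iff] at h
  exact cast_eqMod (h (cd E y) (dimE ▸ cd_lt y) (cd E x) (dimE ▸ cd_lt x))

theorem gE_inter {p : List ℕ × ℕ} (hp : p ∈ genPairs) :
    (gE (ZMod 2) p.1 : Matrix E.Idx E.Idx (ZMod 2)) * Bm =
      Bm * (elX F (ZMod 2) p.2 (1 : ZMod 2) : Matrix F.Idx F.Idx (ZMod 2)) := by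
  obtain ⟨hL, hr⟩ := gen_bounds p hp
  ext x y
  rw [Bm_mul, coe_elX hcF (ZMod 2) hr, xMat_eq hcF (ZMod 2) hr, ← Int.cast_one, ← xTab_map hcF,
    Matrix.map_apply]
  set k : Fin 52 := ⟨cd F y, dimF ▸ cd_lt y⟩ with hk
  have hg : Good E (colB k) := fun q hq => dimE ▸ (colB_spec k).1 q hq
  have hcol : vecOf E (colB k) = fun x' => if foldI x' = y then 1 else 0 := by
    funext x'
    show coeffAt (colB k) (cd E x') = _
    rw [(colB_spec k).2 ⟨cd E x', dimE ▸ cd_lt x'⟩]
    refine if_congr ?_ rfl rfl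
    show fold (cd E x') = cd F y ↔ _
    rw [← cd_foldI]
    exact (cd_injective (D := F)).eq_iff
  have hL' : coeffAt (applyWord E TE p.1 (colB k)) (cd E x) =
      ∑ x', wordZ E TE p.1 x x' * (if foldI x' = y then 1 else 0) := by
    have e := congrFun (vecOf_applyWord hcE hL hg) x
    rw [hcol] at e
    exact e
  have hR : coeffAt (xApply F TF p.2 1 [(cd F y, 1)]) (fold (cd E x)) = xTab F TF ℤ p.2 1 (foldI x) y := by
    have h1 := word_entry hcF (L := [p.2]) (by simpa using hr) (foldI x) y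
    rw [cd_foldI] at h1
    rw [show xTab F TF ℤ p.2 1 = wordZ F TF [p.2] by simp [wordZ], h1]
    rfl
  have h := pair_ok p hp
  simp only [pairCheck, allNat_iff] at h
  have h2 := cast_eqMod (h k.val k.2 (cd E x) (dimE ▸ cd_lt x))
  rw [hL', hR] at h2
  rw [Matrix.mul_apply, gE, coe_word hcE (ZMod 2) hL]
  simp only [eq_intCast] at h2 ⊢
  rw [← h2, Int.cast_sum]
  refine Finset.sum_congr rfl fun x' _ => ?_
  simp only [Bm, Matrix.map_apply, Matrix.submatrix_apply, Matrix.one_apply, id, Int.cast_mul,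
    apply_ite (Int.cast : ℤ → ZMod 2), Int.cast_one, Int.cast_zero, eq_intCast]

theorem Hk_le_inter : Hk (ZMod 2) ≤ inter :=
  (Subgroup.closure_le _).2 fun _ ⟨_, hp, e⟩ => e ▸ ⟨_, gE_inter hp⟩

theorem Hk_le_symm : Hk (ZMod 2) ≤ symm :=
  (Subgroup.closure_le _).2 fun _ ⟨_, hp, e⟩ => e ▸ gE_symm hp

/-- the map to `F4` -/
noncomputable def prH : ↥(Hk (ZMod 2)) →* GL F.Idx (ZMod 2) := pr.comp (Subgroup.inclusion Hk_le_inter)

theorem prH_gen {p : List ℕ × ℕ} (hp : p ∈ genPairs) :
    prH ⟨gE (ZMod 2) p.1, gE_mem hp⟩ = elX F (ZMod 2) p.2 1 := pr_eq _ (gE_inter hp)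

theorem simple_pairs : ∀ i : Fin F.rank, (∃ p ∈ genPairs, p.2 = F.simple i.val) ∧
    ∃ p ∈ genPairs, p.2 = F.neg (F.simple i.val) := by decide +kernel

theorem zmod_two (t : ZMod 2) : t = 0 ∨ t = 1 := by revert t; decide

theorem prH_range : prH.range = F.group (ZMod 2) := by
  refine le_antisymm ?_ ?_
  · rintro _ ⟨⟨g, hg⟩, rfl⟩
    induction hg using Subgroup.closure_induction with
    | mem x hx =>
        obtain ⟨p, hp, rfl⟩ := hx
        show prH ⟨gE (ZMod 2) p.1, gE_mem hp⟩ ∈ _
        rw [prH_gen hp]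
        exact elX_mem_group hcF (gen_bounds p hp).2 1
    | one => exact (map_one prH).symm ▸ one_mem _
    | mul x y hx hy ihx ihy =>
        have := mul_mem ihx ihy
        rwa [← map_mul] at this
    | inv x hx ih =>
        have := inv_mem ih
        rwa [← map_inv] at this
  · have hs : ∀ i : Fin F.rank, elX F (ZMod 2) (F.simple i.val) 1 ∈ prH.range ∧
        elX F (ZMod 2) (F.neg (F.simple i.val)) 1 ∈ prH.range := by
      intro i
      obtain ⟨⟨p, hp, e⟩, p', hp', e'⟩ := simple_pairs i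
      exact ⟨⟨_, e ▸ prH_gen hp⟩, ⟨_, e' ▸ prH_gen hp'⟩⟩
    have hn : ∀ L : List (Fin F.rank), nProd F (ZMod 2) L ∈ prH.range := by
      intro L
      refine Subgroup.list_prod_mem _ fun g hg => ?_
      obtain ⟨i, -, rfl⟩ := List.mem_map.1 hg
      rw [elN, show (-(1 : ZMod 2)⁻¹) = 1 by rw [inv_one]; decide]
      exact mul_mem (mul_mem (hs i).1 (hs i).2) (hs i).1
    rw [group_eq hcF, uGen_le_iff]
    intro r hr _ t
    obtain ⟨L, i, e⟩ := CfsgLib.CurtisTits.exists_word hcF hr
    rcases zmod_two t with rfl | rfl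
    · rw [elX_zero hcF (ZMod 2) hr]; exact one_mem _
    · obtain ⟨c, -, hcx⟩ := nProd_conj_elX hcF (F := ZMod 2) L (simple_lt hcF i.2)
      have hc1 : (c : ZMod 2) = 1 := (zmod_two _).resolve_left c.ne_zero
      have := hcx 1
      rw [hc1, one_mul, e] at this
      rw [← this]
      exact mul_mem (mul_mem (hn L) (hs i).1) (inv_mem (hn L))

end CfsgLib.E6Fold
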