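import Cfsg.Agent.Lib.E6Fold.Data

/-!
The homomorphism of the folded group over the field with two elements onto `F4(2)`, given by the
action on the vectors fixed by the diagram symmetry, and its kernel.
-/

set_option autoImplicit false
set_option linter.unusedSectionVars false
set_option maxRecDepth 10000

namespace CfsgLib.E6Fold

open Cfsg.Lie CfsgLib.Chev

theorem hcE : Checked E TE := CfsgLib.Chev.E6.checked
theorem hcF : Checked F TF := CfsgLib.Chev.F4.checked
theorem hcommE : CommOne E TE := CfsgLib.Twisted.E6.comm_one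

theorem dimE : E.nroots + E.rank = 78 := rfl
theorem dimF : F.nroots + F.rank = 52 := rfl

/-- the folding on basis vectors -/
noncomputable def foldI (x : E.Idx) : F.Idx :=
  (exists_cd (D := F) (by rw [dimF]; exact (code_facts ⟨cd E x, dimE ▸ cd_lt x⟩).1)).choose

theorem cd_foldI (x : E.Idx) : cd F (foldI x) = fold (cd E x) :=
  (exists_cd (D := F) (by rw [dimF]; exact (code_facts ⟨cd E x, dimE ▸ cd_lt x⟩).1)).choose_spec

/-- the symmetry on basis vectors -/
noncomputable def sigI0 (x : E.Idx) : E.Idx :=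
  (exists_cd (D := E) (by rw [dimE]; exact (code_facts ⟨cd E x, dimE ▸ cd_lt x⟩).2.1)).choose

theorem cd_sigI0 (x : E.Idx) : cd E (sigI0 x) = sigC (cd E x) :=
  (exists_cd (D := E) (by rw [dimE]; exact (code_facts ⟨cd E x, dimE ▸ cd_lt x⟩).2.1)).choose_spec

theorem sigI0_sigI0 (x : E.Idx) : sigI0 (sigI0 x) = x :=
  cd_injective (by rw [cd_sigI0, cd_sigI0]; exact (code_facts ⟨cd E x, dimE ▸ cd_lt x⟩).2.2.1)

noncomputable def sigI : E.Idx ≃ E.Idx := Function.Involutive.toPerm sigI0 sigI0_sigI0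

theorem sigI_apply (x : E.Idx) : sigI x = sigI0 x := rfl

theorem foldI_sig (x : E.Idx) : foldI (sigI x) = foldI x :=
  cd_injective (by rw [cd_foldI, cd_foldI, sigI_apply, cd_sigI0]
                   exact (code_facts ⟨cd E x, dimE ▸ cd_lt x⟩).2.2.2)

theorem foldI_fibre {x z : E.Idx} (h : foldI z = foldI x) : z = x ∨ z = sigI x := by
  have h' : fold (cd E z) = fold (cd E x) := by rw [← cd_foldI, ← cd_foldI, h]
  rcases fibre ⟨cd E z, dimE ▸ cd_lt z⟩ ⟨cd E x, dimE ▸ cd_lt x⟩ h' with g | g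
  · exact Or.inl (cd_injective g)
  · exact Or.inr (cd_injective (by rw [sigI_apply, cd_sigI0]; exact g))

theorem foldI_surj (y : F.Idx) : ∃ x, foldI x = y := by
  obtain ⟨k, hk⟩ := fold_surj ⟨cd F y, dimF ▸ cd_lt y⟩
  obtain ⟨x, hx⟩ := exists_cd (D := E) (a := k.val) (by rw [dimE]; exact k.2)
  exact ⟨x, cd_injective (by rw [cd_foldI, hx, hk])⟩

/-- the incidence matrix -/
noncomputable def Bm : Matrix E.Idx F.Idx (ZMod 2) :=
  (1 : Matrix F.Idx F.Idx (ZMod 2)).submatrix foldI id

theorem Bm_mul (N : Matrix F.Idx F.Idx (ZMod 2)) (x : E.Idx) (y : F.Idx) :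
    (Bm * N) x y = N (foldI x) y := by
  rw [Bm, Matrix.mul_apply, Finset.sum_eq_single (foldI x)]
  · rw [Matrix.submatrix_apply, id, Matrix.one_apply_eq, one_mul]
  · intro z _ hz
    rw [Matrix.submatrix_apply, id, Matrix.one_apply_ne hz.symm, zero_mul]
  · intro h; exact absurd (Finset.mem_univ _) h

theorem Bm_cancel {N N' : Matrix F.Idx F.Idx (ZMod 2)} (h : Bm * N = Bm * N') : N = N' := by
  ext y z
  obtain ⟨x, rfl⟩ := foldI_surj y
  rw [← Bm_mul N x z, h, Bm_mul]

/-- the matrices intertwined through the incidence matrix -/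
noncomputable def inter : Subgroup (GL E.Idx (ZMod 2)) where
  carrier := {g | ∃ N : GL F.Idx (ZMod 2), (g : Matrix E.Idx E.Idx (ZMod 2)) * Bm = Bm * (N : Matrix F.Idx F.Idx (ZMod 2))}
  one_mem' := ⟨1, by simp⟩
  mul_mem' := by
    rintro g h ⟨N, hN⟩ ⟨M, hM⟩
    refine ⟨N * M, ?_⟩
    rw [Units.val_mul, Units.val_mul, Matrix.mul_assoc, hM, ← Matrix.mul_assoc, hN, Matrix.mul_assoc]
  inv_mem' := by
    rintro g ⟨N, hN⟩
    refine ⟨N⁻¹, ?_⟩
    calc ((g⁻¹ : GL E.Idx (ZMod 2)) : Matrix E.Idx E.Idx (ZMod 2)) * Bm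
        = ((g⁻¹ : GL E.Idx (ZMod 2)) : Matrix E.Idx E.Idx (ZMod 2)) *
          (Bm * (N : Matrix F.Idx F.Idx (ZMod 2)) * ((N⁻¹ : GL F.Idx (ZMod 2)) : Matrix F.Idx F.Idx (ZMod 2))) := by
          rw [Matrix.mul_assoc Bm, ← Units.val_mul, mul_inv_cancel, Units.val_one, Matrix.mul_one]
      _ = _ := by
          rw [← hN, ← Matrix.mul_assoc, ← Matrix.mul_assoc, ← Units.val_mul, inv_mul_cancel, Units.val_one,
            Matrix.one_mul]

/-- the action on the fixed vectors -/
noncomputable def pr : ↥inter →* GL F.Idx (ZMod 2) :=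
  MonoidHom.mk' (fun g => g.2.choose) fun g h => by
    refine Units.ext (Bm_cancel ?_)
    rw [← (g * h).2.choose_spec, Units.val_mul, ← Matrix.mul_assoc Bm, ← g.2.choose_spec, Matrix.mul_assoc _ Bm,
      ← h.2.choose_spec, ← Matrix.mul_assoc, Subgroup.coe_mul, Units.val_mul]

theorem pr_spec (g : ↥inter) :
    ((g : GL E.Idx (ZMod 2)) : Matrix E.Idx E.Idx (ZMod 2)) * Bm = Bm * (pr g : Matrix F.Idx F.Idx (ZMod 2)) :=
  g.2.choose_spec

theorem pr_eq {g : GL E.Idx (ZMod 2)} (hg : g ∈ inter) {N : GL F.Idx (ZMod 2)}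
    (h : (g : Matrix E.Idx E.Idx (ZMod 2)) * Bm = Bm * (N : Matrix F.Idx F.Idx (ZMod 2))) : pr ⟨g, hg⟩ = N :=
  Units.ext (Bm_cancel ((pr_spec ⟨g, hg⟩).symm.trans h))

/-- the matrices commuting with the symmetry -/
def symm : Subgroup (GL E.Idx (ZMod 2)) where
  carrier := {g | (g : Matrix E.Idx E.Idx (ZMod 2)).submatrix sigI sigI = g}
  one_mem' := by simp
  mul_mem' := by
    intro g h (hg : _ = _) (hh : _ = _)
    show _ = _
    rw [Units.val_mul, ← Matrix.submatrix_mul_equiv _ _ _ sigI _, hg, hh]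
  inv_mem' := by
    intro g (hg : _ = _)
    show _ = _
    have h1 : ((g⁻¹ : GL E.Idx (ZMod 2)) : Matrix E.Idx E.Idx (ZMod 2)).submatrix sigI sigI *
        (g : Matrix E.Idx E.Idx (ZMod 2)) = 1 := by
      conv_lhs => rw [← hg]
      rw [Matrix.submatrix_mul_equiv, ← Units.val_mul, inv_mul_cancel, Units.val_one, Matrix.submatrix_one_equiv]
    calc _ = ((g⁻¹ : GL E.Idx (ZMod 2)) : Matrix E.Idx E.Idx (ZMod 2)).submatrix sigI sigI *
          ((g : Matrix E.Idx E.Idx (ZMod 2)) * ((g⁻¹ : GL E.Idx (ZMod 2)) : Matrix E.Idx E.Idx (ZMod 2))) := by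
          rw [← Units.val_mul, mul_inv_cancel, Units.val_one, Matrix.mul_one]
      _ = _ := by rw [← Matrix.mul_assoc, h1, Matrix.one_mul]

/-- an intertwined symmetric matrix acting trivially on the fixed vectors squares to one -/
theorem sq_eq_one {g : GL E.Idx (ZMod 2)} (hs : g ∈ symm)
    (hB : (g : Matrix E.Idx E.Idx (ZMod 2)) * Bm = Bm) : g * g = 1 := by
  have hneg : ∀ a : ZMod 2, -a = a := by decide
  set A : Matrix E.Idx E.Idx (ZMod 2) := (g : Matrix E.Idx E.Idx (ZMod 2)) - 1 with hA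
  have hAB : A * Bm = 0 := by rw [hA, Matrix.sub_mul, hB, Matrix.one_mul, sub_self]
  have hAs : ∀ z x, A (sigI z) (sigI x) = A z x := by
    intro z x
    have h := congrFun (congrFun (show _ = _ from hs) z) x
    simp only [Matrix.submatrix_apply] at h
    simp only [hA, Matrix.sub_apply, h, Matrix.one_apply, sigI.injective.eq_iff]
  have hpair : ∀ z x, (sigI x ≠ x → A z (sigI x) = A z x) ∧ (sigI x = x → A z x = 0) := by
    intro z x
    have h := congrFun (congrFun hAB z) (foldI x)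
    rw [Matrix.mul_apply, Matrix.zero_apply] at h
    have hoff : ∀ w, w ≠ x ∧ w ≠ sigI x → A z w * Bm w (foldI x) = 0 := by
      intro w hw
      rw [Bm, Matrix.submatrix_apply, id, Matrix.one_apply_ne, mul_zero]
      exact fun e => (foldI_fibre e).elim hw.1 hw.2
    have hone : ∀ w, foldI w = foldI x → Bm w (foldI x) = 1 := by
      intro w e; rw [Bm, Matrix.submatrix_apply, id, e, Matrix.one_apply_eq]
    refine ⟨fun hne => ?_, fun he => ?_⟩
    · rw [Finset.sum_eq_add x (sigI x) hne.symm (fun w _ hw => hoff w hw) (by simp) (by simp),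
        hone x rfl, hone (sigI x) (foldI_sig x), mul_one, mul_one, add_eq_zero_iff_eq_neg, hneg] at h
      exact h.symm
    · rw [Finset.sum_eq_single x (fun w _ hw => hoff w ⟨hw, by rw [he]; exact hw⟩) (by simp), hone x rfl,
        mul_one] at h
      exact h
  have hrow : ∀ z x, A (sigI z) x = A z x := by
    intro z x
    have h1 := hAs z (sigI x)
    rw [show sigI (sigI x) = x from sigI0_sigI0 x] at h1
    rw [h1]
    by_cases hx : sigI x = x
    · rw [hx]
    · exact (hpair z x).1 hx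
  have hAA : A * A = 0 := by
    ext z w
    rw [Matrix.mul_apply, Matrix.zero_apply]
    refine Finset.sum_involution (fun x _ => sigI x) ?_ ?_ (fun x _ => Finset.mem_univ _)
      (fun x _ => sigI0_sigI0 x)
    · intro x _
      by_cases hx : sigI x = x
      · rw [hx, (hpair z x).2 hx, zero_mul, add_zero]
      · rw [(hpair z x).1 hx, hrow, add_eq_zero_iff_eq_neg, hneg]
    · intro x _ hne hx
      exact hne (by rw [(hpair z x).2 hx, zero_mul])
  ext1
  rw [Units.val_mul, Units.val_one, show (g : Matrix E.Idx E.Idx (ZMod 2)) = 1 + A by rw [hA]; abel,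
    Matrix.add_mul, Matrix.mul_add, Matrix.mul_add, hAA, Matrix.one_mul, Matrix.mul_one, add_zero, Matrix.one_mul]
  ext z w
  simp only [Matrix.add_apply]
  have : ∀ a : ZMod 2, a + a = 0 := by decide
  rw [add_assoc, this, add_zero]

end CfsgLib.E6Fold
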