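import Cfsg.Agent.Lib.Twisted.Lead
import Cfsg.Agent.Lib.ChevAut.Sylow
import Cfsg.Agent.Lib.ChevField.Bruhat
import Cfsg.Agent.Lib.Chev.Bruhat
import Mathlib.GroupTheory.Sylow

/-!
An element of `U` with all fundamental coefficients non-zero lies in no other conjugate of `U`.
-/

set_option autoImplicit false
set_option linter.unusedSectionVars false

namespace CfsgLib.E6Fold

open Cfsg.Lie CfsgLib.Chev CfsgLib.Twisted

variable {D : ChevalleyDatum} {T : Tabs} {K : Type*} [Field K]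

/-- all fundamental coefficients are non-zero -/
def IsRegularU (D : ChevalleyDatum) (y : GL D.Idx K) : Prop :=
  y ∈ uGen D K (fun r => D.nroots / 2 ≤ r) ∧ ∀ i : Fin D.rank, lead y (D.simple i.val) i ≠ 0

section
variable (hc : Checked D T) (hH : HtPos D T)
include hc hH

theorem hgt_simple (i : Fin D.rank) : hgt D T (D.simple i.val) = 1 := by
  simp [hgt, htLin, rv_simple hc i]

theorem mem_high_one {g : GL D.Idx K} (hg : g ∈ uGen D K (fun r => D.nroots / 2 ≤ r)) :
    g ∈ highU D T K 1 := by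
  rw [highU_one hc hH, posUnipotent_eq hc]; exact hg

theorem lead_add {g g' : GL D.Idx K} (hg : g ∈ uGen D K (fun r => D.nroots / 2 ≤ r))
    (hg' : g' ∈ uGen D K (fun r => D.nroots / 2 ≤ r)) (i : Fin D.rank) :
    lead (g * g') (D.simple i.val) i = lead g (D.simple i.val) i + lead g' (D.simple i.val) i :=
  lead_mul hc le_rfl (mem_high_one hc hH hg) (mem_high_one hc hH hg') (simple_lt hc i.2)
    (hgt_simple hc hH i) i

theorem lead_inv {g : GL D.Idx K} (hg : g ∈ uGen D K (fun r => D.nroots / 2 ≤ r)) (i : Fin D.rank) :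
    lead g⁻¹ (D.simple i.val) i = -lead g (D.simple i.val) i := by
  have h := lead_add hc hH (inv_mem hg) hg i
  rw [inv_mul_cancel, lead_one hc (simple_lt hc i.2)] at h
  exact eq_neg_of_add_eq_zero_left h.symm

theorem lead_of_avoid {P : ℕ → Prop} (hP : ∀ r, r < D.nroots → P r → D.nroots / 2 ≤ r) (i : Fin D.rank)
    (hi : ¬ P (D.simple i.val)) {g : GL D.Idx K} (hg : g ∈ uGen D K P) :
    lead g (D.simple i.val) i = 0 := by
  induction hg using Subgroup.closure_induction with
  | mem x hx =>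
      obtain ⟨r, t, hr, hPr, rfl⟩ := hx
      rw [lead_elX hc hH hr (hP r hr hPr) (simple_lt hc i.2) (half_le_simple hc i.2)
        (by rw [hgt_simple hc hH i]; exact hH r hr (hP r hr hPr)), if_neg (fun e : r = D.simple i.val => hi (e ▸ hPr))]
  | one => exact lead_one hc (simple_lt hc i.2) i
  | mul x y hx hy ihx ihy =>
      rw [lead_add hc hH (uGen_mono hP hx) (uGen_mono hP hy), ihx, ihy, add_zero]
  | inv x hx ih => rw [lead_inv hc hH (uGen_mono hP hx), ih, neg_zero]

variable (hcomm : CommOne D T)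
include hcomm

theorem mem_borel_of_regular {g y : GL D.Idx K} (hg : g ∈ D.group K) (hy : IsRegularU D y)
    (h : g * y * g⁻¹ ∈ uGen D K (fun r => D.nroots / 2 ≤ r)) : g ∈ D.borelSubgroup K := by
  obtain ⟨L, u, t, v, hu, ht, hv, rfl⟩ := CfsgLib.ChevField.exists_bruhat hc hcomm hg
  have hvU : v ∈ uGen D K (fun r => D.nroots / 2 ≤ r) := uGen_mono (fun r _ hr => hr.1) hv
  have hz : v * y * v⁻¹ ∈ uGen D K (fun r => D.nroots / 2 ≤ r) := mul_mem (mul_mem hvU hy.1) (inv_mem hvU)
  have hlead : ∀ i : Fin D.rank, lead (v * y * v⁻¹) (D.simple i.val) i ≠ 0 := by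
    intro i
    rw [lead_add hc hH (mul_mem hvU hy.1) (inv_mem hvU), lead_add hc hH hvU hy.1, lead_inv hc hH hvU,
      add_comm (lead v _ _), add_neg_cancel_right]
    exact hy.2 i
  obtain ⟨a, ha, b, hb, hab⟩ := uGen_split hc hcomm (closedPos_pos hc) (Q := KeepRoot D T L)
    (R := InvRoot D T L) (fun r hr hp => by
      rcases Nat.lt_or_ge (sigs D T L r) (D.nroots / 2) with g | g
      · exact Or.inr ⟨hp, g⟩
      · exact Or.inl ⟨hp, g⟩) hz
  have hut : u * t ∈ D.borelSubgroup K := mul_mem (pos_le_borel hc hu) (diagonal_le_borel hc ht)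
  have hnz : nProd D K L * (v * y * v⁻¹) * (nProd D K L)⁻¹ ∈ D.borelSubgroup K := by
    have := mul_mem (mul_mem (inv_mem hut) (pos_le_borel hc h)) hut
    rwa [show (u * t)⁻¹ * (u * t * nProd D K L * v * y * (u * t * nProd D K L * v)⁻¹) * (u * t) =
      nProd D K L * (v * y * v⁻¹) * (nProd D K L)⁻¹ by group] at this
  have hb1 : b = 1 := by
    have h1 : nProd D K L * b * (nProd D K L)⁻¹ = 1 := by
      refine borel_inf_neg hc ?_ (nProd_conj_uInv hc L hb)
      have := mul_mem (inv_mem (pos_le_borel hc (nProd_conj_keep hc L ha))) hnz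
      rwa [hab, show (nProd D K L * a * (nProd D K L)⁻¹)⁻¹ * (nProd D K L * (a * b) * (nProd D K L)⁻¹) =
        nProd D K L * b * (nProd D K L)⁻¹ by group] at this
    exact conj_eq_one_iff.1 h1
  have hkeep : ∀ i : Fin D.rank, D.nroots / 2 ≤ sigs D T L (D.simple i.val) := by
    intro i
    by_contra hne
    refine hlead i ?_
    rw [hab, hb1, mul_one]
    exact lead_of_avoid hc hH (fun r _ hr => hr.1) i (fun hr => hne hr.2) ha
  exact mul_mem (mul_mem hut (diagonal_le_borel hc (nProd_mem_of_pos hc L hkeep))) (pos_le_borel hc hvU)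

/-- a `p`-group containing a regular element of `U` lies in `U` -/
theorem le_pos_of_regular [Finite K] {p : ℕ} [Fact p.Prime] [CharP K p] {R : Subgroup (GL D.Idx K)}
    (hRG : R ≤ D.group K) (hR : IsPGroup p ↥R) {y : GL D.Idx K} (hy : IsRegularU D y) (hyR : y ∈ R) :
    R ≤ uGen D K (fun r => D.nroots / 2 ≤ r) := by
  classical
  haveI : Finite (GL D.Idx K) := inferInstance
  obtain ⟨P, hP⟩ := CfsgLib.ChevAut.sylow_pos hc hcomm (F := K) p
  obtain ⟨Q, hQ⟩ := (hR.of_equiv (Subgroup.subgroupOfEquivOfLe hRG).symm).exists_le_sylow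
  obtain ⟨c, hcQ⟩ := MulAction.exists_smul_eq ↥(D.group K) P Q
  have hmem : ∀ x, x ∈ R → (c : GL D.Idx K)⁻¹ * x * c ∈ uGen D K (fun r => D.nroots / 2 ≤ r) := by
    intro x hx
    have h1 : (⟨x, hRG hx⟩ : ↥(D.group K)) ∈ (Q : Subgroup ↥(D.group K)) := hQ hx
    rw [← hcQ, Sylow.coe_subgroup_smul, Subgroup.mem_pointwise_smul_iff_inv_smul_mem, hP,
      Subgroup.mem_subgroupOf] at h1
    have h2 : (c : GL D.Idx K)⁻¹ * x * c ∈ CfsgLib.ChevAut.Up D K := by
      simpa [MulAut.smul_def] using h1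
    exact h2
  have hcB : (c : GL D.Idx K)⁻¹ ∈ D.borelSubgroup K := by
    refine mem_borel_of_regular hc hH hcomm (inv_mem c.2) hy ?_
    rw [inv_inv]; exact hmem y hyR
  intro x hx
  have := borel_conj_pos hc (inv_mem hcB) (hmem x hx)
  rwa [show (c : GL D.Idx K)⁻¹⁻¹ * ((c : GL D.Idx K)⁻¹ * x * c) * (c : GL D.Idx K)⁻¹⁻¹⁻¹ = x by group] at this

end

end CfsgLib.E6Fold
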