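import Cfsg.Agent.Lib.E6Fold.Gens
import Cfsg.Agent.Lib.E6Fold.Regular
import Cfsg.Agent.Lib.Twisted.E6U
import Cfsg.Agent.Lib.Twisted.FixedU

/-!
The folded group is isomorphic to `F4(2)`.
-/

set_option autoImplicit false
set_option linter.unusedSectionVars false
set_option maxRecDepth 10000

namespace CfsgLib.E6Fold

open Cfsg.Lie CfsgLib.Chev CfsgLib.Twisted

theorem htPosE : HtPos E TE := TwistSym.htPos CfsgLib.Twisted.E6.orbit_ok

/-- the product of the positive generators -/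
noncomputable def u0 (K : Type*) [Field K] : GL E.Idx K :=
  gE K [46] * gE K [39] * gE K [56, 36] * gE K [42, 37]

theorem u0_mem (K : Type*) [Field K] : u0 K ∈ Hk K :=
  mul_mem (mul_mem (mul_mem (gE_mem (p := ([46], 24)) (by decide)) (gE_mem (p := ([39], 25)) (by decide)))
    (gE_mem (p := ([56, 36], 33)) (by decide))) (gE_mem (p := ([42, 37], 27)) (by decide))

def simpleList : List ℕ := [46, 39, 56, 36, 42, 37]

theorem u0_eq (K : Type*) [Field K] : u0 K = (simpleList.map fun r => elX E K r (1 : K)).prod := by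
  simp [u0, gE, simpleList, mul_assoc]

theorem simpleList_facts : (∀ r ∈ simpleList, r < E.nroots ∧ E.nroots / 2 ≤ r ∧ hgt E TE r = hgtC E TE r ∧
      hgtC E TE r = 1) ∧
    (∀ i : Fin E.rank, E.simple i.val ∈ simpleList ∧ cv TE (E.simple i.val) i.val = 1) ∧ simpleList.Nodup := by
  refine ⟨fun r hr => ?_, by decide +kernel, by decide +kernel⟩
  have h : ∀ r ∈ simpleList, r < E.nroots ∧ E.nroots / 2 ≤ r ∧ hgtC E TE r = 1 := by decide +kernel
  exact ⟨(h r hr).1, (h r hr).2.1, hgt_eq_hgtC r, (h r hr).2.2⟩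

theorem u0_pos (K : Type*) [Field K] : u0 K ∈ uGen E K (fun r => E.nroots / 2 ≤ r) := by
  rw [u0_eq]
  refine Subgroup.list_prod_mem _ fun g hg => ?_
  obtain ⟨r, hr, rfl⟩ := List.mem_map.1 hg
  exact elX_mem_uGen (simpleList_facts.1 r hr).1 (P := fun r => E.nroots / 2 ≤ r) (simpleList_facts.1 r hr).2.1 _

theorem u0_lead (K : Type*) [Field K] (i : Fin E.rank) : lead (u0 K) (E.simple i.val) i = 1 := by
  obtain ⟨h1, h2, h3⟩ := simpleList_facts
  have hh := hgt_simple hcE htPosE i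
  rw [u0_eq, lead_list_prod hcE le_rfl _ ?_ (simple_lt hcE i.2) hh, List.map_map]
  · rw [← List.sum_toFinset _ h3, Finset.sum_eq_single (E.simple i.val)]
    · simp only [Function.comp_apply]
      rw [lead_elX hcE htPosE (simple_lt hcE i.2) (half_le_simple hcE i.2) (simple_lt hcE i.2)
        (half_le_simple hcE i.2) le_rfl, if_pos rfl, (h2 i).2, Int.cast_one, one_mul]
    · intro r hr hne
      rw [List.mem_toFinset] at hr
      obtain ⟨a, b, c, d⟩ := h1 r hr
      simp only [Function.comp_apply]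
      rw [lead_elX hcE htPosE a b (simple_lt hcE i.2) (half_le_simple hcE i.2) (by rw [hh, c, d]), if_neg hne]
    · intro h; exact absurd (List.mem_toFinset.2 (h2 i).1) h
  · intro g hg
    obtain ⟨r, hr, rfl⟩ := List.mem_map.1 hg
    obtain ⟨a, b, c, d⟩ := h1 r hr
    exact elX_mem_highU hcE a b (by rw [c, d]) _

theorem u0_regular (K : Type*) [Field K] : IsRegularU E (u0 K) :=
  ⟨u0_pos K, fun i => by rw [u0_lead]; exact one_ne_zero⟩

theorem Hk_le_group (K : Type*) [Field K] : Hk K ≤ E.group K :=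
  (Subgroup.closure_le _).2 fun _ ⟨p, hp, e⟩ => e ▸ Subgroup.list_prod_mem _ fun g hg => by
    obtain ⟨r, hr, rfl⟩ := List.mem_map.1 hg
    exact elX_mem_group hcE ((gen_bounds p hp).1 r hr) _

/-- a Coxeter element commuting with the symmetry -/
def cox : List (Fin E.rank) :=
  [⟨0, by decide⟩, ⟨5, by decide⟩, ⟨2, by decide⟩, ⟨4, by decide⟩, ⟨3, by decide⟩, ⟨1, by decide⟩]

/-- the longest element -/
def nodeList : List (Fin E.rank) := (List.replicate 6 cox).flatten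

theorem nodeList_inverts : ∀ r : Fin E.nroots, E.nroots / 2 ≤ r.val →
    sigs E TE nodeList r.val < E.nroots / 2 := by decide +kernel

theorem block_facts :
    (∀ b ∈ ([(56, 36, 15, 35), (42, 37, 29, 34)] : List (ℕ × ℕ × ℕ × ℕ)), b.1 < E.nroots ∧ b.2.1 < E.nroots ∧
      b.2.2.1 < E.nroots ∧ b.2.2.2 < E.nroots ∧ E.neg b.1 = b.2.2.1 ∧ E.neg b.2.1 = b.2.2.2 ∧
      b.2.2.1 ≠ E.neg b.2.1 ∧ E.chainEntry b.2.1 b.2.2.1 = [] ∧ b.1 ≠ E.neg b.2.2.2 ∧
      E.chainEntry b.2.2.2 b.1 = [] ∧ b.2.1 ≠ E.neg b.1 ∧ E.chainEntry b.1 b.2.1 = []) ∧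
    E.simple 0 = 56 ∧ E.simple 5 = 36 ∧ E.simple 2 = 42 ∧ E.simple 4 = 37 ∧ E.simple 3 = 39 ∧ E.simple 1 = 46 ∧
    E.neg 39 = 32 ∧ E.neg 46 = 25 := by
  decide +kernel

theorem nProd_mem : nProd E (ZMod 2) nodeList ∈ Hk (ZMod 2) := by
  obtain ⟨hb, s0, s5, s2, s4, s3, s1, n3, n1⟩ := block_facts
  have one' : (-(1 : ZMod 2)⁻¹) = 1 := by rw [inv_one]; decide
  have single : ∀ a c : ℕ, E.neg a = c → gE (ZMod 2) [a] ∈ Hk (ZMod 2) → gE (ZMod 2) [c] ∈ Hk (ZMod 2) →
      elN E (ZMod 2) a 1 ∈ Hk (ZMod 2) := by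
    intro a c e ha hc'
    rw [elN, one', e]
    simpa [gE] using mul_mem (mul_mem ha hc') ha
  have double : ∀ b ∈ ([(56, 36, 15, 35), (42, 37, 29, 34)] : List (ℕ × ℕ × ℕ × ℕ)),
      gE (ZMod 2) [b.1, b.2.1] ∈ Hk (ZMod 2) → gE (ZMod 2) [b.2.2.1, b.2.2.2] ∈ Hk (ZMod 2) →
      elN E (ZMod 2) b.1 1 * elN E (ZMod 2) b.2.1 1 ∈ Hk (ZMod 2) := by
    intro b hbm ha hc'
    obtain ⟨a1, a2, a3, a4, e1, e2, x1, x2, y1, y2, z1, z2⟩ := hb b hbm
    have key : ∀ {G : Type} [Group G] (A B C D : G), Commute B C → Commute D A → Commute A B →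
        A * B * (C * D) * (A * B) = A * C * A * (B * D * B) := by
      intro G _ A B C D h1 h2 h3
      calc A * B * (C * D) * (A * B) = A * (B * C) * ((D * A) * B) := by group
        _ = A * (C * B) * ((A * D) * B) := by rw [h1.eq, h2.eq]
        _ = A * C * (B * A) * D * B := by group
        _ = A * C * (A * B) * D * B := by rw [h3.eq]
        _ = _ := by group
    have := mul_mem (mul_mem ha hc') ha
    simp only [gE, List.map_cons, List.map_nil, List.prod_cons, List.prod_nil, mul_one] at this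
    rw [key _ _ _ _ (CfsgLib.Twisted.commute_elX hcE a2 a3 x1 x2 _ _) (CfsgLib.Twisted.commute_elX hcE a4 a1 y1 y2 _ _)
      (CfsgLib.Twisted.commute_elX hcE a1 a2 z1 z2 _ _)] at this
    rw [elN, elN, one', e1, e2]
    exact this
  have hblock : nProd E (ZMod 2) cox ∈ Hk (ZMod 2) := by
    have g1 : elN E (ZMod 2) 56 1 * elN E (ZMod 2) 36 1 ∈ Hk (ZMod 2) :=
      double (56, 36, 15, 35) (by simp) (gE_mem (K := ZMod 2) (p := ([56, 36], 33)) (by decide))
        (gE_mem (K := ZMod 2) (p := ([15, 35], 14)) (by decide))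
    have g2 : elN E (ZMod 2) 42 1 * elN E (ZMod 2) 37 1 ∈ Hk (ZMod 2) :=
      double (42, 37, 29, 34) (by simp) (gE_mem (K := ZMod 2) (p := ([42, 37], 27)) (by decide))
        (gE_mem (K := ZMod 2) (p := ([29, 34], 20)) (by decide))
    have g3 : elN E (ZMod 2) 39 1 ∈ Hk (ZMod 2) := single 39 32 n3
      (gE_mem (K := ZMod 2) (p := ([39], 25)) (by decide)) (gE_mem (K := ZMod 2) (p := ([32], 22)) (by decide))
    have g4 : elN E (ZMod 2) 46 1 ∈ Hk (ZMod 2) := single 46 25 n1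
      (gE_mem (K := ZMod 2) (p := ([46], 24)) (by decide)) (gE_mem (K := ZMod 2) (p := ([25], 23)) (by decide))
    have e : nProd E (ZMod 2) cox = elN E (ZMod 2) 56 1 * elN E (ZMod 2) 36 1 *
        (elN E (ZMod 2) 42 1 * elN E (ZMod 2) 37 1) * (elN E (ZMod 2) 39 1 * elN E (ZMod 2) 46 1) := by
      simp only [cox, nProd_cons, nProd_nil, mul_one, s0, s5, s2, s4, s3, s1, mul_assoc]
    rw [e]
    exact Subgroup.mul_mem _ (Subgroup.mul_mem _ g1 g2) (Subgroup.mul_mem _ g3 g4)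
  have hall : ∀ n, nProd E (ZMod 2) ((List.replicate n cox).flatten) ∈ Hk (ZMod 2) := by
    intro n
    induction n with
    | zero => exact Subgroup.one_mem _
    | succ n ih =>
        rw [List.replicate_succ, List.flatten_cons, nProd_append]
        exact Subgroup.mul_mem _ hblock ih
  exact hall 6

theorem kerMap_conj {G M : Type*} [Group G] [Group M] {H : Subgroup G} (f : ↥H →* M) {h : G} (hh : h ∈ H)
    {x : G} (hx : x ∈ f.ker.map H.subtype) : h * x * h⁻¹ ∈ f.ker.map H.subtype := by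
  obtain ⟨g, hg, rfl⟩ := Subgroup.mem_map.1 hx
  exact Subgroup.mem_map.2 ⟨⟨h, hh⟩ * g * ⟨h, hh⟩⁻¹, (MonoidHom.normal_ker f).conj_mem g hg _, rfl⟩

theorem prH_injective : Function.Injective prH := by
  rw [← MonoidHom.ker_eq_bot_iff, eq_bot_iff]
  haveI : Fact (Nat.Prime 2) := ⟨Nat.prime_two⟩
  set N : Subgroup (GL E.Idx (ZMod 2)) := prH.ker.map (Hk (ZMod 2)).subtype with hN
  have hNH : N ≤ Hk (ZMod 2) := by rintro _ ⟨g, -, rfl⟩; exact g.2
  have hN2 : IsPGroup 2 ↥N := by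
    rintro ⟨x, g, hg, rfl⟩
    refine ⟨1, Subtype.ext ?_⟩
    rw [pow_one, SubmonoidClass.coe_pow, pow_two, OneMemClass.coe_one]
    refine sq_eq_one (Hk_le_symm g.2) ?_
    have := pr_spec (Subgroup.inclusion Hk_le_inter g)
    have hg1 : prH g = 1 := MonoidHom.mem_ker.1 hg
    rw [prH, MonoidHom.comp_apply] at hg1
    rw [hg1, Units.val_one, Matrix.mul_one] at this
    exact this
  have hnorm : ∀ h ∈ Hk (ZMod 2), ∀ x ∈ N, h * x * h⁻¹ ∈ N := fun h hh x hx => kerMap_conj prH hh hx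
  have hu : IsPGroup 2 ↥(Subgroup.zpowers (u0 (ZMod 2))) :=
    (Chev.isPGroup_pos hcE (F := ZMod 2) 2).to_le ((Subgroup.zpowers_le).2 (u0_pos _))
  have hsup : IsPGroup 2 ↥(Subgroup.zpowers (u0 (ZMod 2)) ⊔ N) := by
    refine hu.to_sup_of_normal_right' hN2 ?_
    rw [Subgroup.zpowers_le, Subgroup.mem_normalizer_iff]
    intro x
    refine ⟨hnorm _ (u0_mem _) x, fun hx => ?_⟩
    have := hnorm _ (inv_mem (u0_mem _)) _ hx
    rwa [show (u0 (ZMod 2))⁻¹ * (u0 (ZMod 2) * x * (u0 (ZMod 2))⁻¹) * (u0 (ZMod 2))⁻¹⁻¹ = x by group] at this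
  have hle : N ≤ uGen E (ZMod 2) (fun r => E.nroots / 2 ≤ r) :=
    le_sup_right.trans (le_pos_of_regular hcE htPosE hcommE
      (sup_le ((Subgroup.zpowers_le).2 (Hk_le_group _ (u0_mem _))) (hNH.trans (Hk_le_group _))) hsup
      (u0_regular _) (Subgroup.mem_sup_left (Subgroup.mem_zpowers _)))
  intro g hg
  have hgN : (g : GL E.Idx (ZMod 2)) ∈ N := ⟨g, hg, rfl⟩
  have h1 := hle hgN
  have h2 := hle (hnorm _ nProd_mem _ hgN)
  have h3 : (g : GL E.Idx (ZMod 2)) ∈ uInv E TE (ZMod 2) nodeList :=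
    uGen_mono (fun r hr hp => (⟨hp, nodeList_inverts ⟨r, hr⟩ hp⟩ : InvRoot E TE nodeList r)) h1
  have h4 := borel_inf_neg hcE (pos_le_borel hcE h2) (nProd_conj_uInv hcE _ h3)
  exact Subgroup.mem_bot.2 (Subtype.ext (conj_eq_one_iff.1 h4))

/-- the isomorphism -/
theorem hk_two_iso : Nonempty (↥(Hk (ZMod 2)) ≃* ↥(F.group (ZMod 2))) :=
  ⟨(MonoidHom.ofInjective prH_injective).trans (MulEquiv.subgroupCongr prH_range)⟩

end CfsgLib.E6Fold
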